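import Cfsg.Agent.Lib.PiHomogTwo80.Reduction
import Mathlib.FieldTheory.Finite.Basic
import Mathlib.LinearAlgebra.Matrix.SpecialLinearGroup

/-!
# π-homogeneity in `PSL(2,q)`: no prime of `π` divides the order

Elements of odd prime order other than the characteristic are conjugate to their inverses; the
diagonal torus then acts non-trivially on the unipotent subgroup.

Owner: helper80.
-/

set_option autoImplicit false
set_option linter.unusedSectionVars false
set_option linter.style.haveILetI false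

namespace Cfsg.Agent.Lib.PiHomogTwo80

open Subgroup PiHomog3258
open scoped MatrixGroups

universe u

variable {π : Set ℕ}

namespace Hom

variable {X : Type u} [Group X] [Finite X] (h : Hom π X)
include h

/-- A π'-element acting non-trivially on a `p`-subgroup. -/
theorem not_mem_of_act {p : ℕ} (hp : p.Prime) {H : Subgroup X} (hH : IsPGroup p ↥H) {g y : X}
    (hg : PiP π g) (hn : g ∈ normalizer (H : Set X)) (hy : y ∈ H) (hne : y * g ≠ g * y) : p ∉ π := by
  intro hpπ
  haveI := Fact.mk hp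
  obtain ⟨k, hk⟩ := IsPGroup.iff_card.1 hH
  exact hne (h.commute (hk ▸ piNum_pow hp hpπ k) hg hn hy)

/-- The order of an element conjugate to its inverse is not divisible by an odd prime of `π`. -/
theorem not_mem_of_real (hodd : ∀ r ∈ π, r ≠ 2) {p : ℕ} (hp : p.Prime) (hp2 : p ≠ 2) {x g : X}
    (hx : orderOf x = p) (hg : g * x * g⁻¹ = x⁻¹) : p ∉ π := by
  obtain ⟨a, k, hk, hgk⟩ := Nat.exists_eq_two_pow_mul_odd (orderOf_pos g).ne'
  have hinv : ∀ n : ℕ, g ^ (2 * n + 1) * x * (g ^ (2 * n + 1))⁻¹ = x⁻¹ := by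
    intro n
    induction n with
    | zero => simpa using hg
    | succ n ih =>
      rw [show 2 * (n + 1) + 1 = 2 + (2 * n + 1) by ring, pow_add, mul_inv_rev,
        show g ^ 2 * g ^ (2 * n + 1) * x * ((g ^ (2 * n + 1))⁻¹ * (g ^ 2)⁻¹) =
          g ^ 2 * (g ^ (2 * n + 1) * x * (g ^ (2 * n + 1))⁻¹) * (g ^ 2)⁻¹ by group, ih, pow_two,
        show g * g * x⁻¹ * (g * g)⁻¹ = g * (g * x * g⁻¹)⁻¹ * g⁻¹ by group, hg, inv_inv, hg]
  obtain ⟨n, rfl⟩ := hk
  set g' := g ^ (2 * n + 1)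
  have hg' : PiP π g' := by
    intro r hr hd hrπ
    have h2 : orderOf g' ∣ 2 ^ a := orderOf_dvd_of_pow_eq_one (by
      rw [← pow_mul, mul_comm, ← hgk, pow_orderOf_eq_one])
    exact hodd r hrπ ((Nat.prime_dvd_prime_iff_eq hr Nat.prime_two).1 (hr.dvd_of_dvd_pow (hd.trans h2)))
  have hN : g' ∈ normalizer (zpowers x : Set X) := by
    refine mem_normalizer_fintype fun z hz => ?_
    obtain ⟨i, rfl⟩ := mem_zpowers_iff.1 hz
    rw [← conj_zpow, hinv]
    exact zpow_mem (inv_mem (mem_zpowers x)) i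
  refine h.not_mem_of_act hp (IsPGroup.of_card (n := 1) (by rw [Nat.card_zpowers, hx, pow_one]))
    hg' hN (mem_zpowers x) fun hc => ?_
  have h1 : x = x⁻¹ := by
    rw [← hinv n]
    rw [show g ^ (2 * n + 1) = g' from rfl, ← hc, mul_inv_cancel_right]
  have h2 : x ^ 2 = 1 := by rw [pow_two]; nth_rewrite 2 [h1]; exact mul_inv_cancel x
  have := orderOf_dvd_of_pow_eq_one h2
  rw [hx] at this
  exact hp2 ((Nat.prime_dvd_prime_iff_eq hp Nat.prime_two).1 this)

end Hom

section SL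

variable {F : Type*} [Field F] [Fintype F]

/-- A binary form `-u² + D z²` with `D ≠ 0` represents one. -/
theorem exists_form_eq_one (h2 : (2 : F) ≠ 0) {D : F} (hD : D ≠ 0) :
    ∃ u z : F, -u ^ 2 + D * z ^ 2 = 1 := by
  open Polynomial in
  obtain ⟨u, z, huz⟩ := FiniteField.exists_root_sum_quadratic (R := F)
    (f := -(X ^ 2)) (g := C D * X ^ 2 - C 1) (by rw [degree_neg, degree_X_pow]; rfl)
    (by rw [degree_sub_C (by rw [degree_C_mul_X_pow 2 hD]; exact two_pos), degree_C_mul_X_pow 2 hD]; rfl)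
    (Nat.odd_iff.1 ((Nat.even_or_odd _).resolve_left fun he => h2 (by
      have hc : ringChar F = 2 := (FiniteField.even_card_iff_char_two).2 (Nat.even_iff.1 he)
      have := ringChar.Nat.cast_ringChar (R := F)
      rw [hc] at this
      simpa using this)))
  refine ⟨u, z, ?_⟩
  simp only [Polynomial.eval_neg, Polynomial.eval_pow, Polynomial.eval_X, Polynomial.eval_sub,
    Polynomial.eval_mul, Polynomial.eval_C] at huz
  linear_combination huz

/-- An element of `SL₂` with trace not `± 2` is conjugate to its inverse. -/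
theorem exists_inverter (g : SL(2, F))
    (htr : ((g : Matrix (Fin 2) (Fin 2) F) 0 0 + (g : Matrix (Fin 2) (Fin 2) F) 1 1) ^ 2 ≠ 4) :
    ∃ σ : SL(2, F), σ * g = g⁻¹ * σ := by
  obtain ⟨a, ha⟩ : ∃ a, (g : Matrix (Fin 2) (Fin 2) F) 0 0 = a := ⟨_, rfl⟩
  obtain ⟨b, hb⟩ : ∃ b, (g : Matrix (Fin 2) (Fin 2) F) 0 1 = b := ⟨_, rfl⟩
  obtain ⟨c, hc⟩ : ∃ c, (g : Matrix (Fin 2) (Fin 2) F) 1 0 = c := ⟨_, rfl⟩
  obtain ⟨d, hd⟩ : ∃ d, (g : Matrix (Fin 2) (Fin 2) F) 1 1 = d := ⟨_, rfl⟩
  have hdet : a * d - b * c = 1 := by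
    have := g.2
    rwa [Matrix.det_fin_two, ha, hb, hc, hd] at this
  rw [ha, hd] at htr
  have hdisc : (a - d) ^ 2 + 4 * (b * c) ≠ 0 := fun e => htr (by linear_combination e + 4 * hdet)
  obtain ⟨x, y, z, hlin, hq⟩ : ∃ x y z : F, x * (a - d) + y * c + z * b = 0 ∧ -x ^ 2 - y * z = 1 := by
    by_cases hc0 : c = 0
    · have had : a - d ≠ 0 := fun e => hdisc (by rw [e, hc0]; ring)
      refine ⟨-b / (a - d), -1 - (-b / (a - d)) ^ 2, 1, ?_, by ring⟩
      rw [hc0]
      field_simp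
      ring
    · by_cases h2 : (2 : F) = 0
      · refine ⟨1, -(a - d) / c, 0, by field_simp; ring, ?_⟩
        linear_combination -h2
      · have h4 : (4 : F) ≠ 0 := by
          rw [show (4 : F) = 2 * 2 by norm_num]; exact mul_ne_zero h2 h2
        obtain ⟨u, z, huz⟩ := exists_form_eq_one h2
          (div_ne_zero hdisc (mul_ne_zero h4 (pow_ne_zero 2 hc0)))
        refine ⟨u + (a - d) * z / (2 * c), -((u + (a - d) * z / (2 * c)) * (a - d) + z * b) / c, z,
          by field_simp; ring, ?_⟩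
        rw [← huz]
        field_simp
        ring
  obtain ⟨σ, hσ⟩ : ∃ σ : SL(2, F), (σ : Matrix (Fin 2) (Fin 2) F) = !![x, y; z, -x] :=
    ⟨⟨!![x, y; z, -x], by rw [Matrix.det_fin_two_of]; linear_combination hq⟩, rfl⟩
  refine ⟨σ, ?_⟩
  apply Subtype.ext
  rw [Matrix.SpecialLinearGroup.coe_mul, Matrix.SpecialLinearGroup.coe_mul,
    Matrix.SpecialLinearGroup.coe_inv, Matrix.adjugate_fin_two, hσ, ha, hb, hc, hd]
  rw [Matrix.eta_fin_two (g : Matrix (Fin 2) (Fin 2) F), ha, hb, hc, hd]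
  ext i j
  fin_cases i <;> fin_cases j <;> simp
  · linear_combination hlin
  · ring
  · ring
  · linear_combination hlin

/-- An element of `SL₂` with trace `± 2` becomes central in the characteristic. -/
theorem pow_char_mem_center {p : ℕ} [CharP F p] (g : SL(2, F))
    (htr : ((g : Matrix (Fin 2) (Fin 2) F) 0 0 + (g : Matrix (Fin 2) (Fin 2) F) 1 1) ^ 2 = 4) :
    g ^ p ∈ center (SL(2, F)) := by
  obtain ⟨ε, hε, htε⟩ : ∃ ε : F, ε * ε = 1 ∧
      (g : Matrix (Fin 2) (Fin 2) F) 0 0 + (g : Matrix (Fin 2) (Fin 2) F) 1 1 = 2 * ε := by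
    rcases sq_eq_sq_iff_eq_or_eq_neg.1 (htr.trans (show (4 : F) = 2 ^ 2 by norm_num)) with e | e
    · exact ⟨1, one_mul 1, by rw [e, mul_one]⟩
    · exact ⟨-1, by ring, by rw [e]; ring⟩
  set M := (g : Matrix (Fin 2) (Fin 2) F) with hM
  have hdet : M.det = 1 := g.2
  have hsq : M * M = (2 * ε) • M - 1 := by
    rw [Matrix.det_fin_two] at hdet
    ext i j
    fin_cases i <;> fin_cases j <;> simp [Matrix.mul_apply, Fin.sum_univ_two]
    · linear_combination (M 0 0) * htε - hdet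
    · linear_combination (M 0 1) * htε
    · linear_combination (M 1 0) * htε
    · linear_combination (M 1 1) * htε - hdet
  have hpow : ∀ n : ℕ, M ^ n = ((n : F) * ε ^ (n + 1)) • M - (((n : F) - 1) * ε ^ n) • 1 := by
    intro n
    induction n with
    | zero => simp
    | succ n ih =>
      rw [pow_succ, ih, sub_mul, smul_mul_assoc, smul_mul_assoc, one_mul, hsq, smul_sub, smul_smul]
      have e1 : (n : F) * ε ^ (n + 1) * (2 * ε) - ((n : F) - 1) * ε ^ n =
          ((n + 1 : ℕ) : F) * ε ^ (n + 1 + 1) := by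
        push_cast
        rw [pow_succ ε (n + 1), pow_succ ε n]
        linear_combination ((n : F) - 1) * ε ^ n * hε
      have e2 : (n : F) * ε ^ (n + 1) = (((n + 1 : ℕ) : F) - 1) * ε ^ (n + 1) := by push_cast; ring
      rw [← e1, ← e2, sub_smul]
      abel
  refine Matrix.SpecialLinearGroup.mem_center_iff.2 ⟨ε ^ p, ?_, ?_⟩
  · rw [Fintype.card_fin, ← pow_mul, mul_comm, pow_mul, pow_two, hε, one_pow]
  · rw [Matrix.SpecialLinearGroup.coe_pow, ← hM, hpow, CharP.cast_eq_zero F p]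
    rw [Matrix.scalar_apply, ← Matrix.smul_one_eq_diagonal]
    simp

end SL

/-- No prime of `π` divides the order of a π-homogeneous `PSL(2,q)`, `q > 3`. -/
theorem not_dvd_of_psl {X : Type u} [Group X] [Finite X] (h : Hom π X)
    (hodd : ∀ r ∈ π, r ≠ 2) {F : Type*} [Field F] [Fintype F] (hq : 3 < Fintype.card F)
    (e : X ≃* Matrix.ProjectiveSpecialLinearGroup (Fin 2) F) {p : ℕ} (hp : p.Prime) (hpπ : p ∈ π) :
    ¬ p ∣ Nat.card X := by
  classical
  intro hd
  obtain ⟨ℓ, hℓ⟩ := CharP.exists F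
  haveI : Fact ℓ.Prime := ⟨CharP.char_is_prime F ℓ⟩
  obtain ⟨η, hη⟩ : ∃ η : SL(2, F) →* X,
      Function.Surjective η ∧ ∀ g, η g = 1 ↔ g ∈ center (SL(2, F)) :=
    ⟨e.symm.toMonoidHom.comp (QuotientGroup.mk' _),
      e.symm.surjective.comp (QuotientGroup.mk'_surjective _), fun g => by
        show e.symm (QuotientGroup.mk' _ g) = 1 ↔ _
        rw [MulEquiv.map_eq_one_iff, QuotientGroup.mk'_apply, QuotientGroup.eq_one_iff]⟩
  obtain ⟨hηs, hηk⟩ := hη
  -- primes other than the characteristic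
  have stage : ∀ r : ℕ, r.Prime → r ≠ ℓ → r ∣ Nat.card X → r ∉ π := by
    intro r hr hrℓ hrd hrπ
    haveI := Fact.mk hr
    obtain ⟨x, hx⟩ := exists_prime_orderOf_dvd_card' r hrd
    obtain ⟨g, rfl⟩ := hηs x
    have htr : ((g : Matrix (Fin 2) (Fin 2) F) 0 0 + (g : Matrix (Fin 2) (Fin 2) F) 1 1) ^ 2 ≠ 4 := by
      intro htr
      have := (hηk _).2 (pow_char_mem_center (p := ℓ) g htr)
      rw [map_pow] at this
      have := orderOf_dvd_of_pow_eq_one this
      rw [hx] at this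
      exact hrℓ ((Nat.prime_dvd_prime_iff_eq hr Fact.out).1 this)
    obtain ⟨σ, hσ⟩ := exists_inverter g htr
    refine h.not_mem_of_real hodd hr (hodd r hrπ) hx (g := η σ) ?_ hrπ
    rw [← map_inv, ← map_mul, ← map_mul, hσ, mul_inv_cancel_right, map_inv]
  by_cases hpℓ : p = ℓ
  swap
  · exact stage p hp hpℓ hd hpπ
  subst hpℓ
  obtain ⟨k, hk0, hk2⟩ : ∃ k : F, k ≠ 0 ∧ k ^ 2 ≠ 1 := by
    by_contra hh
    push Not at hh
    have hsub : (Finset.univ : Finset F) ⊆ {0, 1, -1} := by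
      intro k _
      by_cases h0 : k = 0
      · simp [h0]
      · rcases sq_eq_one_iff.1 (hh k h0) with e' | e' <;> simp [e']
    have := (Finset.card_le_card hsub).trans Finset.card_le_three
    rw [Finset.card_univ] at this
    omega
  obtain ⟨U, hU⟩ : ∃ U : F → SL(2, F), ∀ s, (U s : Matrix (Fin 2) (Fin 2) F) = !![1, s; 0, 1] :=
    ⟨fun s => ⟨!![1, s; 0, 1], by rw [Matrix.det_fin_two_of]; ring⟩, fun _ => rfl⟩
  let u : Multiplicative F →* SL(2, F) :=
    { toFun := fun s => U (Multiplicative.toAdd s)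
      map_one' := by
        apply Subtype.ext
        simp [hU, Matrix.one_fin_two]
      map_mul' := fun s s' => by
        apply Subtype.ext
        rw [Matrix.SpecialLinearGroup.coe_mul]
        simp [hU, add_comm] }
  obtain ⟨τ, hτ⟩ : ∃ τ : SL(2, F), (τ : Matrix (Fin 2) (Fin 2) F) = !![k, 0; 0, k⁻¹] :=
    ⟨⟨!![k, 0; 0, k⁻¹], by rw [Matrix.det_fin_two_of]; simp [hk0]⟩, rfl⟩
  have hu : ∀ s, (u s : Matrix (Fin 2) (Fin 2) F) = !![1, Multiplicative.toAdd s; 0, 1] := fun s => hU _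
  have hconj : ∀ s : F, τ * u (Multiplicative.ofAdd s) * τ⁻¹ = u (Multiplicative.ofAdd (k ^ 2 * s)) := by
    intro s
    apply Subtype.ext
    rw [Matrix.SpecialLinearGroup.coe_mul, Matrix.SpecialLinearGroup.coe_mul,
      Matrix.SpecialLinearGroup.coe_inv, hτ, hu, hu, Matrix.adjugate_fin_two_of]
    simp [hk0]
    ring
  let H : Subgroup X := (η.comp u).range
  have hH : IsPGroup p ↥H := fun ⟨y, s, hs⟩ => ⟨1, Subtype.ext (by
    rw [SubgroupClass.coe_pow, OneMemClass.coe_one]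
    show y ^ p ^ 1 = 1
    rw [← hs, ← map_pow, pow_one, show s ^ p = 1 from Multiplicative.toAdd.injective (by
      rw [toAdd_pow, nsmul_eq_mul, CharP.cast_eq_zero, zero_mul]; rfl), map_one])⟩
  have hord : orderOf (η τ) ∣ Fintype.card F - 1 := by
    refine (orderOf_map_dvd η τ).trans (orderOf_dvd_of_pow_eq_one (Subtype.ext ?_))
    have hpow : ∀ n : ℕ, ((τ ^ n : SL(2, F)) : Matrix (Fin 2) (Fin 2) F) = !![k ^ n, 0; 0, k⁻¹ ^ n] := by
      intro n
      induction n with
      | zero => simp [Matrix.one_fin_two]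
      | succ n ih => rw [pow_succ, Matrix.SpecialLinearGroup.coe_mul, ih]; simp [hτ, pow_succ]
    rw [hpow, FiniteField.pow_card_sub_one_eq_one k hk0,
      FiniteField.pow_card_sub_one_eq_one k⁻¹ (inv_ne_zero hk0)]
    simp [Matrix.one_fin_two]
  have hτπ : PiP π (η τ) := by
    intro r hr hrd hrπ
    refine stage r hr (fun e' => ?_) (hrd.trans (_root_.orderOf_dvd_natCard _)) hrπ
    subst e'
    obtain ⟨n, -, hn⟩ := FiniteField.card F r
    have h1 : r ∣ Fintype.card F := hn ▸ dvd_pow_self r n.pos.ne'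
    have h2 := hrd.trans hord
    have := Nat.dvd_sub h1 h2
    rw [show Fintype.card F - (Fintype.card F - 1) = 1 by omega, Nat.dvd_one] at this
    exact hr.ne_one this
  have hN : η τ ∈ normalizer (H : Set X) := by
    refine mem_normalizer_fintype ?_
    rintro y ⟨s, rfl⟩
    refine ⟨Multiplicative.ofAdd (k ^ 2 * Multiplicative.toAdd s), ?_⟩
    show η (u _) = η τ * η (u s) * (η τ)⁻¹
    rw [← map_mul, ← map_inv, ← map_mul, ← hconj, ofAdd_toAdd]
  refine h.not_mem_of_act hp hH hτπ hN (y := η (u (Multiplicative.ofAdd 1))) ⟨_, rfl⟩ (fun hc => ?_) hpπ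
  have h1 : η (u (Multiplicative.ofAdd (k ^ 2 - 1))) = 1 := by
    rw [show Multiplicative.ofAdd (k ^ 2 - 1) =
      Multiplicative.ofAdd (k ^ 2 * 1) * (Multiplicative.ofAdd (1 : F))⁻¹ by
        rw [mul_one, ← ofAdd_neg, ← ofAdd_add, sub_eq_add_neg], map_mul, map_inv, ← hconj, map_mul,
      map_mul, map_mul, map_inv, map_inv, ← hc, mul_inv_cancel_right, mul_inv_cancel]
  obtain ⟨r, -, hr⟩ := Matrix.SpecialLinearGroup.mem_center_iff.1 ((hηk _).1 h1)
  rw [hu, toAdd_ofAdd] at hr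
  have := congrArg (fun M => M 0 1) hr
  simp at this
  exact hk2 (by linear_combination -this)

end Cfsg.Agent.Lib.PiHomogTwo80
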