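import Cfsg.Agent.Lib.PiHomog3258.Reduction
import Cfsg.Agent.Lib.Walter.Assemble
import Cfsg.Agent.Lib.GorensteinWalter.Sylow
import Mathlib.GroupTheory.Transfer

/-!
# π-homogeneous groups with abelian or dihedral Sylow 2-subgroups: reduction to simple groups

The reduction is that of `Thompson3Prime33.Homogeneous` (helper33), with the condition on the Sylow
2-subgroups in place of the one at three.

Owner: helper80.
-/

set_option autoImplicit false
set_option linter.unusedSectionVars false
set_option linter.style.haveILetI false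

namespace Cfsg.Agent.Lib.PiHomogTwo80

open Subgroup PiHomog3258

universe u

variable {G : Type u} [Group G] [Finite G] {π : Set ℕ}

/-- Abelian, or cyclic or dihedral Sylow 2-subgroups; this passes to sections. -/
def TwoOk (G : Type u) [Group G] : Prop :=
  Walter.AbelianSylow G ∨ GorensteinWalter.SylowCD G

theorem TwoOk.subgroup (h : TwoOk G) (H : Subgroup G) : TwoOk ↥H :=
  h.imp (fun ha => Walter.abelianSylow_subgroup ha H) (fun hc => hc.subgroup H)

theorem TwoOk.quotient (h : TwoOk G) (N : Subgroup G) [N.Normal] : TwoOk (G ⧸ N) :=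
  h.imp (fun ha => Walter.abelianSylow_quotient ha N)
    (fun hc => hc.of_surjective (QuotientGroup.mk' N) (QuotientGroup.mk'_surjective N))

/-- π'-elements normalising a π-subgroup centralise it. -/
structure Hom (π : Set ℕ) (G : Type u) [Group G] : Prop where
  homog : ∀ H : Subgroup G, PiNum π (Nat.card ↥H) → ∀ x : G, PiP π x →
    x ∈ normalizer (H : Set G) → x ∈ centralizer (H : Set G)

/-- A minimal counterexample. -/
structure Min (π : Set ℕ) (G : Type u) [Group G] : Prop where
  hyp : Hom π G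
  two : TwoOk G
  simple : IsSimpleGroup G
  nonab : ¬ ∀ a b : G, a * b = b * a
  proper : ∀ H : Subgroup G, H ≠ ⊤ → ClosedIn π H

namespace Hom

variable (h : Hom π G)
include h

theorem commute {H : Subgroup G} (hH : PiNum π (Nat.card ↥H)) {x y : G} (hx : PiP π x)
    (hn : x ∈ normalizer (H : Set G)) (hy : y ∈ H) : y * x = x * y :=
  mem_centralizer_iff.1 (h.homog H hH x hx hn) y hy

theorem subgroup (H : Subgroup G) : Hom π ↥H := by
  refine ⟨fun L hL x hx hn => ?_⟩
  have h1 : (x : G) ∈ centralizer ((L.map H.subtype : Subgroup G) : Set G) := by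
    refine h.homog _ ?_ _ (piP_of_dvd (Subgroup.orderOf_coe x).dvd hx) ?_
    · rwa [← Nat.card_congr (L.equivMapOfInjective H.subtype H.subtype_injective).toEquiv]
    · have h2 := le_normalizer_map (H.subtype) (mem_map_of_mem H.subtype hn)
      simpa using h2
  rw [mem_centralizer_iff] at h1 ⊢
  exact fun y hy => Subtype.ext (h1 _ ⟨y, hy, rfl⟩)

/-- Homogeneity at a prime in a quotient by a normal π'-subgroup. -/
theorem commute_quotient_sylow (N : Subgroup G) [N.Normal] {p : ℕ} [hp : Fact p.Prime]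
    (hpπ : p ∈ π) {Q : Subgroup (G ⧸ N)} (hQ : IsPGroup p ↥Q) {x : G ⧸ N} (hx : PiP π x)
    (hn : x ∈ normalizer (Q : Set (G ⧸ N))) {y : G ⧸ N} (hy : y ∈ Q) : y * x = x * y := by
  set f := QuotientGroup.mk' N
  obtain ⟨g, rfl⟩ := QuotientGroup.mk'_surjective N x
  set Qt := Q.comap f
  obtain ⟨P⟩ : Nonempty (Sylow p ↥Qt) := inferInstance
  set P' := (P : Subgroup ↥Qt).map Qt.subtype with hP'
  have hP'Q : P' ≤ Qt := map_subtype_le _
  have himg : P'.map f = Q := by
    set r := f.subgroupComap Q with hr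
    have hrs : Function.Surjective r := f.subgroupComap_surjective_of_surjective Q
      (QuotientGroup.mk'_surjective N)
    set R := P.mapSurjective hrs
    have hR : (R : Subgroup ↥Q) = ⊤ :=
      (R.is_maximal' (hQ.to_subgroup ⊤) le_top).symm
    apply le_antisymm (map_le_iff_le_comap.2 hP'Q)
    intro z hz
    have : (⟨z, hz⟩ : ↥Q) ∈ (R : Subgroup ↥Q) := hR ▸ mem_top _
    obtain ⟨w, hw, hwz⟩ := this
    exact ⟨w, ⟨w, hw, rfl⟩, congrArg Subtype.val hwz⟩
  have hsup : Qt = P' ⊔ N := by
    show Q.comap f = P' ⊔ N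
    conv_lhs => rw [← himg, comap_map_eq, QuotientGroup.ker_mk']
  have hgN : g ∈ normalizer (Qt : Set G) := by
    rw [mem_normalizer_iff] at hn ⊢
    intro z
    show f z ∈ Q ↔ f (g * z * g⁻¹) ∈ Q
    rw [map_mul, map_mul, map_inv]
    exact hn (f z)
  have hconjle : P'.map (MulAut.conj g).toMonoidHom ≤ Qt := by
    rintro _ ⟨z, hz, rfl⟩
    exact (mem_normalizer_iff.1 hgN z).1 (hP'Q hz)
  have hcard : Nat.card ↥((P'.map (MulAut.conj g).toMonoidHom).subgroupOf Qt) =
      p ^ (Nat.card ↥Qt).factorization p := by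
    rw [Nat.card_congr (subgroupOfEquivOfLe hconjle).toEquiv,
      card_map_of_injective (f := (MulAut.conj g).toMonoidHom) (MulAut.conj g).injective,
      hP', card_map_of_injective (f := Qt.subtype) Qt.subtype_injective,
      P.card_eq_multiplicity]
  set P2 := Sylow.ofCard _ hcard
  obtain ⟨k, hk⟩ := MulAction.exists_smul_eq ↥Qt P P2
  obtain ⟨q, hq, m, hm, hqm⟩ : ∃ q ∈ P', ∃ m ∈ N, m * q = (k : G) := by
    have : (k : G) ∈ N ⊔ P' := by rw [sup_comm, ← hsup]; exact k.2
    obtain ⟨m, hm, q, hq, he⟩ := mem_sup_of_normal_left.1 this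
    exact ⟨q, hq, m, hm, he⟩
  set n := m⁻¹ * g with hn'
  have hnN : n ∈ normalizer (P' : Set G) := by
    refine mem_normalizer_fintype fun z hz => ?_
    have hz' : g * z * g⁻¹ ∈ Qt := hconjle ⟨z, hz, rfl⟩
    have h2 : (⟨_, hz'⟩ : ↥Qt) ∈ (P2 : Subgroup ↥Qt) := by
      show (⟨_, hz'⟩ : ↥Qt) ∈ (P'.map (MulAut.conj g).toMonoidHom).subgroupOf Qt
      rw [mem_subgroupOf]
      exact ⟨z, hz, rfl⟩
    rw [← hk, Sylow.coe_subgroup_smul, mem_pointwise_smul_iff_inv_smul_mem] at h2
    have h1 : (k : G)⁻¹ * (g * z * g⁻¹) * (k : G) ∈ P' :=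
      ⟨_, h2, by simp [MulAut.smul_def, mul_assoc]⟩
    have h3 := mul_mem (mul_mem hq h1) (inv_mem hq)
    rw [← hqm] at h3
    simpa [hn', mul_assoc] using h3
  obtain ⟨a, -, ha, hpow⟩ := exists_piP_pow π n
  have hP'π : PiNum π (Nat.card ↥P') := by
    obtain ⟨e, he⟩ := IsPGroup.iff_card.1 (P.isPGroup'.map Qt.subtype)
    rw [hP', he]
    exact piNum_pow hp.out hpπ e
  have hfn : f g = f n := by
    have hm1 : f m = 1 := by rw [← MonoidHom.mem_ker, QuotientGroup.ker_mk']; exact hm
    rw [hn', map_mul, map_inv, hm1, inv_one, one_mul]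
  have hfnP : ∀ z ∈ Q, z * f (n ^ a) = f (n ^ a) * z := by
    intro z hz
    rw [← himg] at hz
    obtain ⟨w, hw, rfl⟩ := hz
    rw [← map_mul, ← map_mul, h.commute hP'π ha (pow_mem hnN a) hw]
  obtain ⟨c, hc⟩ := hpow f (hfn ▸ hx)
  rw [hfn, hc]
  exact Commute.pow_right (hfnP y hy) c

/-- The hypotheses pass to the quotient by a normal π'-subgroup. -/
theorem quotient (N : Subgroup G) [N.Normal] (hN : ∀ x ∈ N, PiP π x) : Hom π (G ⧸ N) := by
  refine ⟨fun X hX x hx hn => ?_⟩
  -- centralise a Sylow subgroup for each prime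
  have hcop : (Nat.card ↥(zpowers x)).Coprime (Nat.card ↥X) := by
    rw [Nat.card_zpowers]
    exact (coprime_piNum hX hx).symm
  have hsolv := Coprime.isSolvable_zpowers x
  set C := (centralizer ({x} : Set (G ⧸ N))).subgroupOf X with hC
  have hCtop : C = ⊤ := by
    rw [← index_eq_one]
    by_contra h1
    obtain ⟨p, hp, hpd⟩ := Nat.exists_prime_and_dvd h1
    haveI := Fact.mk hp
    obtain ⟨P, hP⟩ := Coprime.exists_invariant_sylow (zpowers_le.2 hn) hcop (Or.inl hsolv) p
    refine P.not_dvd_index (hpd.trans (index_dvd_of_le fun z hz => ?_))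
    rw [hC, mem_subgroupOf, mem_centralizer_singleton_iff]
    exact h.commute_quotient_sylow N (hX p hp (hpd.trans C.index_dvd_card))
      (P.isPGroup'.map X.subtype) hx (hP (mem_zpowers x)) (mem_map_of_mem X.subtype hz)
  rw [mem_centralizer_iff]
  intro y hy
  exact mem_centralizer_singleton_iff.1
    (mem_subgroupOf.1 (hCtop ▸ mem_top (⟨y, hy⟩ : ↥X) : (⟨y, hy⟩ : ↥X) ∈ C))

/-- The hypotheses pass to the quotient by a central π-subgroup. -/
theorem quotient_central (N : Subgroup G) [N.Normal] (hNπ : PiNum π (Nat.card ↥N)) :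
    Hom π (G ⧸ N) := by
  set f := QuotientGroup.mk' N
  have hpre : ∀ X : Subgroup (G ⧸ N), PiNum π (Nat.card ↥X) →
      PiNum π (Nat.card ↥(X.comap f)) := by
    intro X hX
    have hNX : N ≤ X.comap f := fun z hz => by
      show f z ∈ X
      rw [show f z = 1 by rw [← MonoidHom.mem_ker, QuotientGroup.ker_mk']; exact hz]
      exact X.one_mem
    have h1 : (N.subgroupOf (X.comap f)).index = Nat.card ↥X := by
      have h2 : (f.subgroupComap X).ker = N.subgroupOf (X.comap f) := ker_subgroupComap_mk N X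
      rw [← h2, index_ker, MonoidHom.range_eq_top.2
        (f.subgroupComap_surjective_of_surjective X (QuotientGroup.mk'_surjective N)), card_top]
    rw [← (N.subgroupOf (X.comap f)).card_mul_index, h1,
      Nat.card_congr (subgroupOfEquivOfLe hNX).toEquiv]
    exact piNum_mul hNπ hX
  refine ⟨fun X hX x hx hn => ?_⟩
  obtain ⟨g, rfl⟩ := QuotientGroup.mk'_surjective N x
  obtain ⟨a, -, ha, hpow⟩ := exists_piP_pow π g
  have hgN : g ∈ normalizer (X.comap f : Set G) := by
    rw [mem_normalizer_iff] at hn ⊢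
    intro z
    show f z ∈ X ↔ f (g * z * g⁻¹) ∈ X
    rw [map_mul, map_mul, map_inv]
    exact hn (f z)
  rw [mem_centralizer_iff]
  intro y hy
  obtain ⟨w, rfl⟩ := QuotientGroup.mk'_surjective N y
  have h1 : Commute (f w) (f (g ^ a)) := by
    show f w * f (g ^ a) = f (g ^ a) * f w
    rw [← map_mul, ← map_mul, h.commute (hpre X hX) ha (pow_mem hgN a) hy]
  obtain ⟨c, hc⟩ := hpow f hx
  rw [hc]
  exact (h1.pow_right c).eq

end Hom

/-- Reduction to minimal counterexamples. -/
theorem closedIn_top_of_noMin (π : Set ℕ)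
    (hmin : ∀ (X : Type u) [Group X] [Finite X], Min π X → ClosedIn π (⊤ : Subgroup X)) :
    ∀ (n : ℕ) (G : Type u) [Group G] [Finite G], Nat.card G = n → Hom π G → TwoOk G →
      ClosedIn π (⊤ : Subgroup G) := by
  intro n
  induction n using Nat.strong_induction_on with
  | _ n ih =>
  intro G _ _ hcard h h2
  subst hcard
  have hproper : ∀ H : Subgroup G, H ≠ ⊤ → ClosedIn π H := fun H hH =>
    ClosedIn.of_top (ih _ (card_lt_card' hH) ↥H rfl (h.subgroup H) (h2.subgroup H))
  by_cases hs : ∃ N : Subgroup G, N.Normal ∧ N ≠ ⊥ ∧ N ≠ ⊤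
  · obtain ⟨N, hN, hN1, hN2⟩ := hs
    obtain ⟨K, hK⟩ := hproper N hN2
    haveI := hN
    haveI := ClosedIn.normal_of_normal hK
    by_cases hK1 : K = ⊥
    · -- `N` is a π-group centralised by all π'-elements
      have hNπ : PiNum π (Nat.card ↥N) := by
        have := ClosedIn.piNum_relIndex hK
        rwa [hK1, relIndex_bot_left] at this
      have hC : ∀ x : G, PiP π x → x ∈ centralizer (N : Set G) := fun x hx =>
        h.homog N hNπ x hx (by rw [normalizer_eq_top_iff.2 hN]; exact mem_top x)
      by_cases hCt : centralizer (N : Set G) = ⊤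
      · obtain ⟨L, hL⟩ := ih _ (card_quotient_lt hN1) (G ⧸ N) rfl (h.quotient_central N hNπ) (h2.quotient N)
        set f := QuotientGroup.mk' N
        set M := L.comap f
        have hNM : N ≤ M := fun z hz => by
          show f z ∈ L
          rw [show f z = 1 by rw [← MonoidHom.mem_ker, QuotientGroup.ker_mk']; exact hz]
          exact L.one_mem
        haveI : (N.subgroupOf M).Normal := Normal.subgroupOf hN _
        have hker : (f.subgroupComap L).ker = N.subgroupOf M := ker_subgroupComap_mk N L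
        have hidx : (N.subgroupOf M).index = Nat.card ↥L := by
          rw [← hker, index_ker, MonoidHom.range_eq_top.2
            (f.subgroupComap_surjective_of_surjective L (QuotientGroup.mk'_surjective N)), card_top]
        have hLp := not_mem_of_dvd_card fun x hx => ((hL x).1 hx).2
        obtain ⟨Y, hY⟩ := exists_right_complement'_of_coprime (N := N.subgroupOf M) (by
          rw [hidx, Nat.card_congr (subgroupOfEquivOfLe hNM).toEquiv]
          exact coprime_piNum hNπ hLp)
        have hYcard : Nat.card ↥Y = Nat.card ↥L := hY.symm.index_eq_card.symm.trans hidx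
        refine ⟨Y.map M.subtype, fun x => ?_⟩
        constructor
        · rintro ⟨y, hy, rfl⟩
          refine ⟨mem_top _, fun p hp hd => hLp p hp (hYcard ▸ hd.trans ?_)⟩
          exact (Subgroup.orderOf_coe y).dvd.trans (orderOf_dvd_natCard Y hy)
        · rintro ⟨-, hx⟩
          have hxM : x ∈ M := (hL _).2 ⟨mem_top _, piP_of_dvd (orderOf_map_dvd f x) hx⟩
          obtain ⟨⟨m, w⟩, hmw⟩ := hY.2 ⟨x, hxM⟩
          have hcomm : Commute ((m : ↥M) : G) ((w : ↥M) : G) :=
            (mem_centralizer_iff.1 ((hCt ▸ mem_top _) : ((w : ↥M) : G) ∈ centralizer (N : Set G))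
              _ m.2)
          have hx' : x = ((m : ↥M) : G) * ((w : ↥M) : G) := (congrArg Subtype.val hmw).symm
          have hcop : (orderOf ((m : ↥M) : G)).Coprime (orderOf ((w : ↥M) : G)) :=
            ((coprime_piNum hNπ hLp).coprime_dvd_left
              (orderOf_dvd_natCard N m.2)).coprime_dvd_right
              ((Subgroup.orderOf_coe (w : ↥M)).dvd.trans
                (hYcard ▸ orderOf_dvd_natCard Y w.2))
          have hm : ((m : ↥M) : G) = 1 := by
            refine eq_one_of_piP (fun p hp hd => hx p hp ?_)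
              (piNum_of_dvd (orderOf_dvd_natCard N m.2) hNπ)
            rw [hx', hcomm.orderOf_mul_eq_mul_orderOf_of_coprime hcop]
            exact hd.mul_right _
          rw [hx', hm, one_mul]
          exact mem_map_of_mem M.subtype w.2
      · obtain ⟨L, hL⟩ := hproper _ hCt
        exact ⟨L, fun x => ⟨fun hx => ⟨mem_top x, ((hL x).1 hx).2⟩,
          fun hx => (hL x).2 ⟨hC x hx.2, hx.2⟩⟩⟩
    · have hKp : ∀ x ∈ K, PiP π x := fun x hx => ((hK x).1 hx).2
      obtain ⟨L, hL⟩ := ih _ (card_quotient_lt hK1) (G ⧸ K) rfl (h.quotient K hKp) (h2.quotient K)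
      set f := QuotientGroup.mk' K
      refine ⟨L.comap f, fun x => ⟨fun hx => ⟨mem_top x, fun p hp hd => ?_⟩, fun hx => ?_⟩⟩
      · have h1 := ((hL _).1 hx).2
        have h2 : x ^ orderOf (f x) ∈ K := by
          rw [← QuotientGroup.eq_one_iff, QuotientGroup.mk_pow]
          exact pow_orderOf_eq_one _
        have h3 : orderOf x ∣ orderOf (f x) * Nat.card ↥K := by
          rw [orderOf_dvd_iff_pow_eq_one, pow_mul]
          exact orderOf_dvd_iff_pow_eq_one.1 (orderOf_dvd_natCard K h2)
        rcases (Nat.Prime.dvd_mul hp).1 (hd.trans h3) with h4 | h4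
        · exact h1 p hp h4
        · exact not_mem_of_dvd_card hKp p hp h4
      · exact (hL _).2 ⟨mem_top _, piP_of_dvd (orderOf_map_dvd f x) hx.2⟩
  · by_cases hab : ∀ a b : G, a * b = b * a
    · -- every element has the same prime order or is trivial
      by_cases hπ : ∀ x : G, PiP π x
      · exact ⟨⊤, fun x => ⟨fun _ => ⟨mem_top x, hπ x⟩, fun h => h.1⟩⟩
      · refine ClosedIn.of_piNum fun q hq hqd => ?_
        push Not at hπ
        obtain ⟨x, hx⟩ := hπ
        unfold PiP at hx
        push Not at hx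
        obtain ⟨p, hp, hpd, hpπ⟩ := hx
        rw [card_top] at hqd
        haveI := Fact.mk hp
        haveI := Fact.mk hq
        set e := x ^ (orderOf x / p)
        have heo : orderOf e = p := orderOf_pow_orderOf_div (orderOf_pos x).ne' hpd
        have htop : zpowers e = ⊤ := by
          by_contra h1
          exact hs ⟨zpowers e, ⟨fun z hz g => by rwa [hab g z, mul_inv_cancel_right]⟩,
            fun h2 => hp.ne_one (by
              rw [← heo, ← Nat.card_zpowers, h2, card_bot]), h1⟩
        have hc : Nat.card G = p := by rw [← heo, ← Nat.card_zpowers, htop, card_top]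
        rw [hc] at hqd
        exact ((Nat.prime_dvd_prime_iff_eq hq hp).1 hqd) ▸ hpπ
    · haveI : Nontrivial G := by
        by_contra h1
        rw [not_nontrivial_iff_subsingleton] at h1
        exact hab fun a b => Subsingleton.elim _ _
      push Not at hs
      exact hmin G ⟨h, h2, ⟨fun N hN => by
        by_cases hb : N = ⊥
        · exact Or.inl hb
        · exact Or.inr (hs N hN hb)⟩, hab, hproper⟩

/-- The hypothesis of the statements. -/
theorem hom_of_relIndex {G : Type u} [Group G] [Finite G] (π : Set ℕ)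
    (hhom : ∀ H : Subgroup G, H ≠ ⊥ → (∀ p : ℕ, p.Prime → p ∣ Nat.card ↥H → p ∈ π) →
      ∀ p : ℕ, p.Prime → p ∣ (centralizer (H : Set G)).relIndex (normalizer (H : Set G)) →
        p ∈ π) : Hom π G := by
  refine ⟨fun H hH x hx hn => ?_⟩
  by_cases hb : H = ⊥
  · rw [mem_centralizer_iff]
    intro y hy
    rw [hb, coe_bot, Set.mem_singleton_iff] at hy
    rw [hy, one_mul, mul_one]
  set C := (centralizer (H : Set G)).subgroupOf (normalizer (H : Set G)) with hC
  haveI : C.Normal := (normal_subgroupOf_iff (centralizer_le_normalizer _)).2 fun c n hc hn => by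
    rw [mem_centralizer_iff] at hc ⊢
    intro y hy
    have h1 := hc _ ((mem_normalizer_iff''.1 hn y).1 hy)
    calc y * (n * c * n⁻¹) = n * (n⁻¹ * y * n * c) * n⁻¹ := by group
      _ = n * (c * (n⁻¹ * y * n)) * n⁻¹ := by rw [h1]
      _ = n * c * n⁻¹ * y := by group
  have h1 : PiP π (QuotientGroup.mk' C ⟨x, hn⟩) :=
    piP_of_dvd ((orderOf_map_dvd _ _).trans (Subgroup.orderOf_mk x hn).dvd) hx
  have h3' : PiNum π (Nat.card (↥(normalizer (H : Set G)) ⧸ C)) := by
    rw [← index_eq_card]
    exact hhom H hb hH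
  have h4 := eq_one_of_piP h1 (piNum_of_dvd (_root_.orderOf_dvd_natCard _) h3')
  rw [QuotientGroup.mk'_apply, QuotientGroup.eq_one_iff] at h4
  exact mem_subgroupOf.1 h4

end Cfsg.Agent.Lib.PiHomogTwo80
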