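import Cfsg.Agent.Lib.PiHomogTwo80.Psl
import Cfsg.Agent.Lib.ReeTorus80.Build
import Cfsg.Agent.Lib.Walter.Main
import Cfsg.Agent.Lib.BenderOne.Final
import Cfsg.Agent.Lib.GorensteinWalter.Main
import Cfsg.Agent.Lib.Linear.SmallIso.PSL5
import Cfsg.Agent.Lib.AllAbelian80.Field.J1Tori
import Cfsg.Agent.S1644

/-!
# π-homogeneous groups with abelian or dihedral Sylow 2-subgroups

A simple one has order prime to `π`: in `PSL(2,q)`, `A₇`, `J₁` and the groups of Ree order every odd prime
belongs to an element conjugate to its inverse or to a subgroup moved by such elements.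

Owner: helper80.
-/

set_option autoImplicit false
set_option linter.unusedSectionVars false
set_option linter.style.haveILetI false

namespace Cfsg.Agent.Lib.PiHomogTwo80

open Subgroup PiHomog3258
open Cfsg.Agent.Lib.J1Cent (evJ evJ_eq evJ_ne evJ_append)

universe u

variable {π : Set ℕ}

theorem not_dvd_of_alt7 {X : Type u} [Group X] [Finite X] (h : Hom π X) (hodd : ∀ r ∈ π, r ≠ 2)
    (e : X ≃* alternatingGroup (Fin 7)) {p : ℕ} (hp : p.Prime) (hpπ : p ∈ π) :
    ¬ p ∣ Nat.card X := by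
  intro hd
  haveI := Fact.mk hp
  obtain ⟨x, g, hx, hg⟩ : ∃ x g : alternatingGroup (Fin 7),
      orderOf x = 3 ∧ g * x * g⁻¹ = x⁻¹ := by
    refine ⟨⟨Equiv.swap 0 1 * Equiv.swap 1 2, Equiv.Perm.mem_alternatingGroup.2 (by decide +kernel)⟩, ⟨Equiv.swap 0 1 * Equiv.swap 3 4, Equiv.Perm.mem_alternatingGroup.2 (by decide +kernel)⟩,
      orderOf_eq_prime (by decide +kernel) (by decide +kernel), by decide +kernel⟩
  have h3 : (3 : ℕ) ∉ π := h.not_mem_of_real hodd Nat.prime_three (by norm_num)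
    (x := e.symm x) (g := e.symm g) (by rw [MulEquiv.orderOf_eq, hx])
    (by rw [← map_inv, ← map_mul, ← map_mul, hg, map_inv])
  obtain ⟨x, g, hx, hg⟩ : ∃ x g : alternatingGroup (Fin 7),
      orderOf x = 5 ∧ g * x * g⁻¹ = x⁻¹ := by
    refine ⟨⟨Equiv.swap 0 1 * Equiv.swap 1 2 * Equiv.swap 2 3 * Equiv.swap 3 4, Equiv.Perm.mem_alternatingGroup.2 (by decide +kernel)⟩,
      ⟨Equiv.swap 1 4 * Equiv.swap 2 3, Equiv.Perm.mem_alternatingGroup.2 (by decide +kernel)⟩, ?_, by decide +kernel⟩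
    haveI : Fact (Nat.Prime 5) := ⟨by norm_num⟩
    exact orderOf_eq_prime (by decide +kernel) (by decide +kernel)
  have h5 : (5 : ℕ) ∉ π := h.not_mem_of_real hodd (by norm_num) (by norm_num)
    (x := e.symm x) (g := e.symm g) (by rw [MulEquiv.orderOf_eq, hx])
    (by rw [← map_inv, ← map_mul, ← map_mul, hg, map_inv])
  obtain ⟨x, g, hx, hg, hg1, hne⟩ : ∃ x g : alternatingGroup (Fin 7),
      orderOf x = 7 ∧ g * x * g⁻¹ = x ^ 2 ∧ orderOf g = 3 ∧ x * g ≠ g * x := by
    refine ⟨⟨Equiv.swap 0 1 * Equiv.swap 1 2 * Equiv.swap 2 3 * Equiv.swap 3 4 * Equiv.swap 4 5 *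
      Equiv.swap 5 6, Equiv.Perm.mem_alternatingGroup.2 (by decide +kernel)⟩,
      ⟨Equiv.swap 1 2 * Equiv.swap 2 4 * (Equiv.swap 3 6 * Equiv.swap 6 5), Equiv.Perm.mem_alternatingGroup.2 (by decide +kernel)⟩,
      ?_, by decide +kernel, orderOf_eq_prime (by decide +kernel) (by decide +kernel),
      by decide +kernel⟩
    haveI : Fact (Nat.Prime 7) := ⟨by norm_num⟩
    exact orderOf_eq_prime (by decide +kernel) (by decide +kernel)
  have hx' : orderOf (e.symm x) = 7 := by rw [MulEquiv.orderOf_eq, hx]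
  have h7 : (7 : ℕ) ∉ π := by
    refine h.not_mem_of_act (by norm_num) (H := zpowers (e.symm x)) (IsPGroup.of_card (n := 1)
      (by rw [Nat.card_zpowers, hx', pow_one])) (g := e.symm g) ?_ ?_ (mem_zpowers _) ?_
    · intro r hr hd hrπ
      rw [MulEquiv.orderOf_eq, hg1] at hd
      exact h3 ((Nat.prime_dvd_prime_iff_eq hr Nat.prime_three).1 hd ▸ hrπ)
    · refine mem_normalizer_fintype fun z hz => ?_
      obtain ⟨i, rfl⟩ := mem_zpowers_iff.1 hz
      rw [← conj_zpow, ← map_inv, ← map_mul, ← map_mul, hg, map_pow, ← zpow_natCast, ← zpow_mul]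
      exact zpow_mem (mem_zpowers _) _
    · rw [← map_mul, ← map_mul]
      exact fun e' => hne (e.symm.injective e')
  rw [Nat.card_congr e.toEquiv, nat_card_alternatingGroup, Nat.card_fin,
    show Nat.factorial 7 / 2 = 2 ^ 3 * 3 ^ 2 * 5 * 7 by decide] at hd
  have key : ∀ r : ℕ, r.Prime → p ∣ r → p = r := fun r hr hpr => (Nat.prime_dvd_prime_iff_eq hp hr).1 hpr
  rcases hp.dvd_mul.1 hd with hd | hd
  · rcases hp.dvd_mul.1 hd with hd | hd
    · rcases hp.dvd_mul.1 hd with hd | hd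
      · exact hodd p hpπ (key 2 Nat.prime_two (hp.dvd_of_dvd_pow hd))
      · exact h3 (key 3 Nat.prime_three (hp.dvd_of_dvd_pow hd) ▸ hpπ)
    · exact h5 (key 5 (by norm_num) hd ▸ hpπ)
  · exact h7 (key 7 (by norm_num) hd ▸ hpπ)

/-- In `J₁` elements of order 7, 11 and 19 are conjugate to their inverses. -/
theorem j1_real {l : ℕ} (hl : l = 7 ∨ l = 11 ∨ l = 19) :
    ∃ w g : ↥Cfsg.Spor.J1, orderOf w = l ∧ g * w = w ^ (l - 1) * g := by
  rcases hl with rfl | rfl | rfl
  · haveI : Fact (Nat.Prime 7) := ⟨by norm_num⟩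
    refine ⟨evJ [false], evJ (List.replicate 3 [true, true, false, false, true, false, true, false, false, false, false, true, false, false, true, false, true, false, true]).flatten, orderOf_eq_prime ?_ ?_, ?_⟩
    · rw [← AllAbelian80.evJ_pow]; exact evJ_eq (w := []) (by decide +kernel)
    · exact evJ_ne (w := []) (by decide +kernel)
    · rw [← AllAbelian80.evJ_pow, ← evJ_append, ← evJ_append]; exact evJ_eq (by decide +kernel)
  · haveI : Fact (Nat.Prime 11) := ⟨by norm_num⟩
    refine ⟨evJ [true, true, false], evJ (List.replicate 5 [false, false, true, false, true, true, false, true]).flatten, orderOf_eq_prime ?_ ?_, ?_⟩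
    · rw [← AllAbelian80.evJ_pow]; exact evJ_eq (w := []) (by decide +kernel)
    · exact evJ_ne (w := []) (by decide +kernel)
    · rw [← AllAbelian80.evJ_pow, ← evJ_append, ← evJ_append]; exact evJ_eq (by decide +kernel)
  · haveI : Fact (Nat.Prime 19) := ⟨by norm_num⟩
    refine ⟨evJ [true, false, false, false], evJ (List.replicate 3 [false, true, false, false, true, false, false, true, true, false, true, false, true, false, false]).flatten, orderOf_eq_prime ?_ ?_, ?_⟩
    · rw [← AllAbelian80.evJ_pow]; exact evJ_eq (w := []) (by decide +kernel)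
    · exact evJ_ne (w := []) (by decide +kernel)
    · rw [← AllAbelian80.evJ_pow, ← evJ_append, ← evJ_append]; exact evJ_eq (by decide +kernel)

theorem not_dvd_of_jr (hZ : Walter.PropNoField.{u}) (hO : Walter.PropOrder.{u}) {X : Type u} [Group X]
    [Finite X] (h : Hom π X) (hodd : ∀ r ∈ π, r ≠ 2) (hJ : Walter.IsJR X) {p : ℕ} (hp : p.Prime)
    (hpπ : p ∈ π) : ¬ p ∣ Nat.card X := by
  intro hd
  haveI := hJ.simple
  haveI : Fact (Nat.Prime 2) := ⟨Nat.prime_two⟩
  haveI := Fact.mk hp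
  obtain ⟨S⟩ := (inferInstance : Nonempty (Sylow 2 X))
  obtain ⟨⟨t, htS⟩, ht'⟩ := exists_prime_orderOf_dvd_card' (G := (S : Subgroup X)) 2 (by
    rw [hJ.card_sylow S]; norm_num)
  have ht : orderOf t = 2 := by rwa [← Subgroup.orderOf_mk t htS]
  obtain ⟨E, E₀, hE⟩ := hJ.centralizer t ht
  have hEE := hZ X hJ t ht E E₀ hE
  obtain ⟨F, hF, hF', hq8, h5, ⟨φ⟩⟩ := hE.2.2.2.2.1
  subst hEE
  have hnE : ∀ r : ℕ, r.Prime → r ∈ π → ¬ r ∣ Nat.card ↥E := fun r hr hrπ =>
    not_dvd_of_psl (h.subgroup E) hodd (by omega) φ hr hrπ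
  obtain ⟨d⟩ := Walter.prod_equiv ht hE.1
  have e2 := d.trans ((MulEquiv.refl _).prodCongr φ)
  rcases hO X (fun P a b => by haveI := (hJ.elementary P).1; exact mul_comm' a b) F (by omega) t ht
      ⟨e2⟩ with ⟨m, hm, hFm, hc⟩ | ⟨h45, hJ1⟩
  · have C : Walter.NoField.Ctx S t E E := ⟨hJ, ht, htS, hE⟩
    obtain ⟨d', s, U, T, H⟩ := AllAbelian80.exists_hyp hJ C hm hFm φ hc
    have hd' := hd
    rw [H.card] at hd'
    have hE2 := H.cardE
    have hqE : ¬ p ∣ Fintype.card F * (Fintype.card F - 1) * (Fintype.card F + 1) := by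
      rw [← hE2]
      intro h'
      rcases hp.dvd_mul.1 h' with h'' | h''
      · exact hodd p hpπ ((Nat.prime_dvd_prime_iff_eq hp Nat.prime_two).1 h'')
      · exact hnE p hp hpπ h''
    generalize hq : Fintype.card F = q at hd' hqE
    have hle : q ≤ q ^ 2 := Nat.le_self_pow two_ne_zero q
    have hcube : q ^ 3 + 1 = (q + 1) * (q ^ 2 - q + 1) := by zify [hle]; ring
    rw [hcube] at hd'
    have hpm : p ∣ q ^ 2 - q + 1 := by
      rcases hp.dvd_mul.1 hd' with h' | h'
      · rcases hp.dvd_mul.1 h' with h'' | h''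
        · exact absurd (dvd_mul_of_dvd_left (dvd_mul_of_dvd_left (hp.dvd_of_dvd_pow h'') _) _) hqE
        · rcases hp.dvd_mul.1 h'' with h3 | h3
          · exact absurd (dvd_mul_of_dvd_right h3 _) hqE
          · exact h3
      · exact absurd (dvd_mul_of_dvd_left (dvd_mul_of_dvd_right h' _) _) hqE
    obtain ⟨x, hx⟩ := exists_prime_orderOf_dvd_card' p hd
    obtain ⟨u, -, hu⟩ := ReeTorus80.exists_inverting_of_jr hJ C hm hFm φ hc x
      (fun e => by rw [e, orderOf_one] at hx; exact hp.ne_one hx.symm) (by rw [hx, hq]; exact hpm)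
    exact h.not_mem_of_real hodd hp (hodd p hpπ) hx hu hpπ
  · have hq5 : Fintype.card F = 5 := by omega
    obtain ⟨e5⟩ := Linear.SmallIso.nonempty_psl_two_five hq5
    obtain ⟨f⟩ := Cfsg.Agent.S1644.result S ((hJ.elementary S).1) (hJ.card_sylow S) t ht
      (e2.trans ((MulEquiv.refl _).prodCongr e5))
    have hE60 : Nat.card ↥E = 2 ^ 2 * 3 * 5 := by
      rw [Nat.card_congr (φ.trans e5).toEquiv, nat_card_alternatingGroup, Nat.card_fin]
      decide
    have key : ∀ r : ℕ, r.Prime → p ∣ r → p = r := fun r hr hpr =>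
      (Nat.prime_dvd_prime_iff_eq hp hr).1 hpr
    have big : ∀ l, (l = 7 ∨ l = 11 ∨ l = 19) → l.Prime → p ∣ l → False := by
      intro l hl hlp hpl
      obtain rfl := key l hlp hpl
      obtain ⟨w, g, hw, hg⟩ := j1_real hl
      refine h.not_mem_of_real hodd hp (hodd p hpπ) (x := f.symm w) (g := f.symm g)
        (by rw [MulEquiv.orderOf_eq, hw]) ?_ hpπ
      rw [← map_inv, ← map_mul, ← map_mul, hg, mul_inv_cancel_right, ← map_inv]
      congr 1
      refine eq_inv_of_mul_eq_one_left ?_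
      rw [← pow_succ, Nat.sub_add_cancel hp.one_le, ← hw, pow_orderOf_eq_one]
    rw [hJ1.2, show 175560 = 2 ^ 3 * 3 * 5 * 7 * 11 * 19 by norm_num] at hd
    rcases hp.dvd_mul.1 hd with hd | hd
    · rcases hp.dvd_mul.1 hd with hd | hd
      · rcases hp.dvd_mul.1 hd with hd | hd
        · rcases hp.dvd_mul.1 hd with hd | hd
          · rcases hp.dvd_mul.1 hd with hd | hd
            · exact hodd p hpπ (key 2 Nat.prime_two (hp.dvd_of_dvd_pow hd))
            · exact hnE p hp hpπ (hd.trans ⟨2 ^ 2 * 5, by rw [hE60]; ring⟩)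
          · exact hnE p hp hpπ (hd.trans ⟨2 ^ 2 * 3, by rw [hE60]; ring⟩)
        · exact big 7 (by norm_num) (by norm_num) hd
      · exact big 11 (by norm_num) (by norm_num) hd
    · exact big 19 (by norm_num) (by norm_num) hd

/-- The order of a simple π-homogeneous group with abelian or dihedral Sylow 2-subgroups is prime to `π`. -/
theorem closedIn_of_min (hZ : Walter.PropNoField.{u}) (hO : Walter.PropOrder.{u}) {X : Type u} [Group X]
    [Finite X] (hodd : ∀ r ∈ π, r ≠ 2) (hmin : Min π X) : ClosedIn π (⊤ : Subgroup X) := by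
  have hna : ¬ IsMulCommutative X := fun h => hmin.nonab fun a b => h.is_comm.comm a b
  have hnd : ∀ p : ℕ, p.Prime → p ∈ π → ¬ p ∣ Nat.card X := by
    intro p hp hpπ
    by_cases hab : Walter.AbelianSylow X
    · rcases Walter.propKnown BenderOne.propSplitFinal GorensteinWalter.propMainFinal X hmin.simple hna
        hab with ⟨n, F, hF, hF', hn, hc, ⟨e⟩⟩ | ⟨F, hF, hF', -, h5, ⟨e⟩⟩ | hJ
      · refine not_dvd_of_psl hmin.hyp hodd ?_ e hp hpπ
        rw [hc]
        exact lt_of_lt_of_le (by norm_num) (Nat.pow_le_pow_right two_pos hn)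
      · exact not_dvd_of_psl hmin.hyp hodd (by omega) e hp hpπ
      · exact not_dvd_of_jr hZ hO hmin.hyp hodd hJ hp hpπ
    · have hD : GorensteinWalter.HasDihedralSylow X := by
        have hcd := hmin.two.resolve_left hab
        intro S
        refine (hcd S).resolve_left fun hc => hab fun P => ?_
        haveI : Fact (Nat.Prime 2) := ⟨Nat.prime_two⟩
        refine ⟨⟨fun x y => (Sylow.equiv P S).injective ?_⟩⟩
        letI := hc.commGroup
        rw [map_mul, map_mul, mul_comm]
      rcases GorensteinWalter.known_of_simple X hmin.simple hna hD with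
        ⟨F, hF, hF', -, hq, ⟨e⟩⟩ | ⟨⟨e⟩⟩
      · exact not_dvd_of_psl hmin.hyp hodd hq e hp hpπ
      · exact not_dvd_of_alt7 hmin.hyp hodd e hp hpπ
  exact ⟨⊤, fun x => ⟨fun _ => ⟨mem_top x, fun q hq hqd hqπ =>
    hnd q hq hqπ (hqd.trans (_root_.orderOf_dvd_natCard x))⟩, fun _ => mem_top x⟩⟩

/-- The statement of S4047 from the exclusion of field automorphisms and the order theorem. -/
theorem row4047 (hZ : Walter.PropNoField.{u}) (hO : Walter.PropOrder.{u}) {G : Type u} [Group G]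
    [Finite G] (π : Set ℕ) (hodd : ∀ p ∈ π, p.Prime ∧ p ≠ 2)
    (h2 : ∀ S : Sylow 2 G, IsMulCommutative S ∨ ∃ n : ℕ, Nonempty ((S : Subgroup G) ≃* DihedralGroup n))
    (hhom : ∀ H : Subgroup G, H ≠ ⊥ → (∀ p : ℕ, p.Prime → p ∣ Nat.card ↥H → p ∈ π) →
      ∀ p : ℕ, p.Prime → p ∣ (centralizer (H : Set G)).relIndex (normalizer (H : Set G)) → p ∈ π) :
    ∃ K : Subgroup G, ∀ x : G, x ∈ K ↔ ∀ p : ℕ, p.Prime → p ∣ orderOf x → p ∉ π := by
  haveI : Fact (Nat.Prime 2) := ⟨Nat.prime_two⟩
  have htwo : TwoOk G := by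
    obtain ⟨S⟩ := (inferInstance : Nonempty (Sylow 2 G))
    rcases h2 S with hc | ⟨n, ⟨e⟩⟩
    · left
      intro P
      haveI := hc
      refine ⟨⟨fun x y => (Sylow.equiv P S).injective ?_⟩⟩
      rw [map_mul, map_mul]
      exact mul_comm' _ _
    · right
      intro P
      have hS : GorensteinWalter.CycDih ↥(S : Subgroup G) := by
        rcases n with _ | _ | n
        · exfalso
          haveI : Finite (DihedralGroup 0) := Finite.of_equiv _ e.toEquiv
          haveI : Finite ℤ := Finite.of_injective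
            (fun i : ℤ => (DihedralGroup.r i : DihedralGroup 0)) fun a b h => DihedralGroup.r.inj h
          exact not_finite ℤ
        · haveI : IsCyclic (DihedralGroup 1) :=
            isCyclic_of_prime_card (p := 2) (by rw [DihedralGroup.nat_card])
          exact Or.inl (isCyclic_of_injective e.toMonoidHom e.injective)
        · exact Or.inr ⟨n + 2, by omega, ⟨e⟩⟩
      exact hS.of_injective (Sylow.equiv P S).toMonoidHom (MulEquiv.injective _)
  obtain ⟨K, hK⟩ := closedIn_top_of_noMin π (fun X _ _ hX =>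
    closedIn_of_min hZ hO (fun p hp => (hodd p hp).2) hX) _ G rfl (hom_of_relIndex π hhom) htwo
  exact ⟨K, fun x => (hK x).trans ⟨fun hx => hx.2, fun hx => ⟨mem_top x, hx⟩⟩⟩

end Cfsg.Agent.Lib.PiHomogTwo80
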